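import Groth.Agent.S3034
import Groth.Agent.Lib.AlgGrpBasic19.Basic
import Groth.Agent.Lib.Isogeny14.Kernel
import Groth.Agent.Lib.TorPts21.WeylNorm
import Groth.Agent.Lib.TorPts21.CentreFinite
import Groth.Agent.Lib.TorPts21.FieldDescent
import Groth.Agent.Lib.TorPts21.BaseChangeTorus
import Groth.Agent.Lib.MTRigid29.TrivGlobal
import Groth.Agent.Lib.BorelFix21.Pts
import Groth.Agent.Lib.Weight4.DegRank
import Groth.Agent.Lib.ConstrPt19.Basic
import Groth.Agent.Lib.VarDim.Irred
import Groth.Agent.Lib.Deligne19.Basic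
import Groth.Agent.Lib.AbelGrp20.Main
import Groth.Agent.Lib.OrbitTop19.Smooth
import Groth.Agent.Lib.TorPts21.OrbitLimit
import Groth.Prelude.Def_SGA7IX

/-!
# Powers on tori and finiteness through geometric points
-/

set_option autoImplicit false
set_option linter.style.haveILetI false
set_option backward.isDefEq.respectTransparency false
set_option backward.isDefEq.respectTransparency.types false

universe u

open CategoryTheory Limits MonoidalCategory CartesianMonoidalCategory MonObj AlgebraicGeometry
open Groth.Agent.DiagGL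

noncomputable section

namespace Groth.Agent.TorusIsog19

variable {k : Type u} [Field k]

theorem isMonHom_pow {S : Scheme.{u}} (X : Over S) [GrpObj X] [IsCommMonObj X] (n : ℕ) :
    IsMonHom ((𝟙 X : X ⟶ X) ^ n) := by
  induction n with
  | zero => rw [pow_zero]; infer_instance
  | succ n ih =>
    rw [pow_succ]
    haveI := ih
    exact TorPts21.isMonHom_mul _ _

theorem comp_id_pow {S : Scheme.{u}} {W X : Over S} [GrpObj X] (g : W ⟶ X) (n : ℕ) :
    g ≫ ((𝟙 X : X ⟶ X) ^ n) = g ^ n := by
  induction n with
  | zero => rw [pow_zero, pow_zero, MonObj.comp_one]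
  | succ n ih => rw [pow_succ, pow_succ, MonObj.comp_mul, ih, Category.comp_id]

/-- A homomorphism through which a flat surjection factors is flat and surjective. -/
theorem flat_surjective_of_factor {G H Z : Over (Spec (CommRingCat.of k))} [GrpObj G] [GrpObj H]
    [LocallyOfFiniteType G.hom] [LocallyOfFiniteType H.hom] (u : G ⟶ H) [IsMonHom u] [QuasiCompact u.left]
    (z : Z ⟶ G) [Flat (z ≫ u).left] [Surjective (z ≫ u).left] [QuasiCompact (z ≫ u).left] :
    Flat u.left ∧ Surjective u.left := by
  obtain ⟨C, _, p, i, -, -, hpi, hp₁, hp₂, -, hi⟩ := Groth.Agent.S3034.result k G H u (by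
    let f : pullback u.left (η[H] : _ ⟶ H).left ⟶ Spec (CommRingCat.of k) := pullback.snd _ _
    exact (inferInstance : Flat f))
  haveI : StrongEpi (((z ≫ p).left) ≫ i.left) := by
    have e : (z ≫ p).left ≫ i.left = (z ≫ u).left := by rw [← hpi]; simp
    rw [e]; infer_instance
  haveI : StrongEpi i.left := strongEpi_of_strongEpi (z ≫ p).left i.left
  haveI : IsIso i.left := isIso_of_mono_of_strongEpi i.left
  rw [← hpi, Over.comp_left]
  exact ⟨inferInstance, inferInstance⟩

/-- A surjective homomorphism to a reduced group is flat. -/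
theorem flat_of_surjective {G H : Over (Spec (CommRingCat.of k))} [GrpObj G] [GrpObj H]
    [LocallyOfFiniteType G.hom] [LocallyOfFiniteType H.hom] [IsReduced H.left] (u : G ⟶ H) [IsMonHom u]
    [QuasiCompact u.left] [Surjective u.left] : Flat u.left := by
  obtain ⟨C, _, p, i, -, -, hpi, hp₁, hp₂, -, hi⟩ := Groth.Agent.S3034.result k G H u (by
    let f : pullback u.left (η[H] : _ ⟶ H).left ⟶ Spec (CommRingCat.of k) := pullback.snd _ _
    exact (inferInstance : Flat f))
  haveI : Surjective i.left := by
    haveI : Surjective (p.left ≫ i.left) := by rw [← Over.comp_left, hpi]; infer_instance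
    exact Surjective.of_comp p.left i.left
  haveI : IsIso i.left := isIso_of_isClosedImmersion_of_surjective i.left
  rw [← hpi, Over.comp_left]
  infer_instance

section Points

variable (k) (K : Type u) [Field K] [Algebra k K] [IsAlgClosed K]

/-- The point with values in an algebraically closed extension. -/
abbrev geo : Over (Spec (CommRingCat.of k)) :=
  (Over.map (Spec.map (CommRingCat.ofHom (algebraMap k K)))).obj (VecGrp.pt K K)

variable {k}

theorem finite_space_of_finite_pts {X : Over (Spec (CommRingCat.of k))} [LocallyOfFiniteType X.hom]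
    [IsSeparated X.hom] (h : Finite (geo k K ⟶ X)) : IsFinite X.hom := by
  let φ := Spec.map (CommRingCat.ofHom (algebraMap k K))
  haveI := h
  haveI : Finite (VecGrp.pt K K ⟶ Red.bc φ X) := Finite.of_equiv _ ((Over.mapPullbackAdj φ).homEquiv _ X)
  haveI : LocallyOfFiniteType (Red.bc φ X).hom := inferInstanceAs (LocallyOfFiniteType (pullback.snd _ _))
  haveI : IsSeparated (Red.bc φ X).hom := inferInstanceAs (IsSeparated (pullback.snd _ _))
  haveI := TorPts21.finite_of_finite_pts (X := Red.bc φ X) inferInstance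
  haveI : Surjective φ := ⟨fun z => ⟨IsLocalRing.closedPoint K, Subsingleton.elim _ _⟩⟩
  haveI : Surjective (pullback.fst X.hom φ) := inferInstance
  haveI : Finite X.left := Finite.of_surjective (α := (Red.bc φ X).left) _ (pullback.fst X.hom φ).surjective
  haveI : LocallyQuasiFinite X.hom := by
    haveI : CompactSpace X.left := ⟨Set.finite_univ.isCompact⟩
    haveI : QuasiCompact X.hom := HasAffineProperty.iff_of_isAffine.mpr ‹CompactSpace X.left›
    exact LocallyQuasiFinite.of_finite_preimage_singleton X.hom fun y => Set.toFinite _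
  exact DegRank.isFinite_of_finite X.hom

theorem finite_pts_of_isFinite {X : Over (Spec (CommRingCat.of k))} [IsFinite X.hom] :
    Finite (geo k K ⟶ X) := by
  let φ := Spec.map (CommRingCat.ofHom (algebraMap k K))
  haveI hf : IsFinite (Red.bc φ X).hom := inferInstanceAs (IsFinite (pullback.snd X.hom φ))
  haveI : Finite (Red.bc φ X).left := Set.finite_univ_iff.1 <|
    ((Red.bc φ X).hom.finite_preimage_singleton (IsLocalRing.closedPoint K)).subset
      fun z _ => Subsingleton.elim (α := PrimeSpectrum K) _ _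
  haveI : Finite (VecGrp.pt K K ⟶ Red.bc φ X) :=
    Finite.of_injective (fun x => InvRing21.img x) fun a b h => TorPts21.pt_ext h
  exact Finite.of_equiv _ ((Over.mapPullbackAdj φ).homEquiv _ X).symm

theorem fl_pow {X : Over (Spec (CommRingCat.of k))} [GrpObj X] {W : Over (Spec (CommRingCat.of K))}
    (x : W ⟶ Red.bc (Spec.map (CommRingCat.ofHom (algebraMap k K))) X) (n : ℕ) :
    fl _ X (x ^ n) = fl _ X x ^ n := by
  induction n with
  | zero => rw [pow_zero, pow_zero, MTRigid29.fl_one]
  | succ n ih => rw [pow_succ, pow_succ, fl_mul, ih]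

variable {T : Over (Spec (CommRingCat.of k))} [GrpObj T] (hT : Red.IsTorus T)
include hT

theorem exists_pow_eq {n : ℕ} (hn : 0 < n) (τ : geo k K ⟶ T) : ∃ τ' : geo k K ⟶ T, τ' ^ n = τ := by
  obtain ⟨x, rfl⟩ := fl_surjective _ T τ
  obtain ⟨y, hy⟩ := TorPts21.exists_pow_eq (TorPts21.isTorus_bc _ hT) hn x
  exact ⟨fl _ T y, by rw [← fl_pow, hy]⟩

theorem finite_torsion {n : ℕ} (hn : 0 < n) : {τ : geo k K ⟶ T | τ ^ n = 1}.Finite := by
  refine ((TorPts21.finite_torsion (TorPts21.isTorus_bc (Spec.map (CommRingCat.ofHom (algebraMap k K))) hT) hn).image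
    (fl _ T)).subset fun τ (hτ : τ ^ n = 1) => ?_
  obtain ⟨x, rfl⟩ := fl_surjective _ T τ
  refine ⟨x, fl_injective _ T ?_, rfl⟩
  rw [fl_pow, hτ, MTRigid29.fl_one]

end Points

/-- The powers of a torus over a field are flat and surjective. -/
theorem flat_surjective_pow {T : Over (Spec (CommRingCat.of k))} [GrpObj T] (hT : Red.IsTorus T) [IsCommMonObj T] [LocallyOfFiniteType T.hom] [QuasiCompact T.hom] [IsSeparated T.hom]
    {n : ℕ} (hn : 0 < n) : Flat ((𝟙 T : T ⟶ T) ^ n).left ∧ Surjective ((𝟙 T : T ⟶ T) ^ n).left := by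
  obtain ⟨hsm, -⟩ := TorPts21.smooth_connected_of_isTorus hT
  haveI := isMonHom_pow T n
  haveI : QuasiCompact ((𝟙 T : T ⟶ T) ^ n).left := AlgGrpBasic19.quasiCompact_left _
  haveI : IsLocallyNoetherian T.left := LocallyOfFiniteType.isLocallyNoetherian T.hom
  haveI : LocallyOfFiniteType ((𝟙 T : T ⟶ T) ^ n).left := AlgGrpBasic19.lft_left _
  haveI : LocallyOfFinitePresentation ((𝟙 T : T ⟶ T) ^ n).left :=
    VarDim.locallyOfFinitePresentation_of_locallyNoetherian _
  haveI : CompactSpace T.left := QuasiCompact.compactSpace_of_compactSpace T.hom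
  haveI : QuasiSeparatedSpace T.left := quasiSeparatedSpace_of_quasiSeparated T.hom
  let K := AlgebraicClosure k
  haveI : JacobsonSpace T.left := LocallyOfFiniteType.jacobsonSpace T.hom
  let φ := Spec.map (CommRingCat.ofHom (algebraMap k K))
  haveI : Surjective φ := ⟨fun z => ⟨IsLocalRing.closedPoint K, Subsingleton.elim _ _⟩⟩
  haveI hs : Surjective ((𝟙 T : T ⟶ T) ^ n).left := by
    refine ConstrPt19.surjective_of_closedPoints _ fun y hy => ?_
    haveI : LocallyOfFiniteType (Red.bc φ T).hom := inferInstanceAs (LocallyOfFiniteType (pullback.snd _ _))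
    obtain ⟨x, hx⟩ := BorelFix21.exists_pt_mem (G := Red.bc φ T) (Z := (pullback.fst T.hom φ) ⁻¹' {y})
      (hy.preimage (pullback.fst T.hom φ).continuous).isLocallyClosed (by
        obtain ⟨w, hw⟩ := (pullback.fst T.hom φ).surjective y
        exact ⟨w, hw⟩)
    obtain ⟨τ', hτ'⟩ := exists_pow_eq K hT hn (fl φ T x)
    refine ⟨τ'.left (IsLocalRing.closedPoint K), ?_⟩
    rw [← Scheme.Hom.comp_apply, ← Over.comp_left, comp_id_pow, hτ']
    exact hx
  haveI : IsReduced T.left := by
    haveI := hsm
    exact OrbitTop19.isReduced_of_smooth T.hom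
  exact ⟨flat_of_surjective _, hs⟩

end Groth.Agent.TorusIsog19
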