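import Groth.Agent.Lib.TorusIsog19.Basic
import Groth.Agent.Lib.TorPts21.ImageTorus
import Groth.Agent.Lib.TorPts21.RadicalImage
import Groth.Agent.Lib.TorPts21.UnipPart
import Groth.Agent.S8061

/-!
# Tori and isogenies
-/

set_option autoImplicit false
set_option linter.style.haveILetI false
set_option backward.isDefEq.respectTransparency.types false
universe u

open CategoryTheory Limits MonoidalCategory CartesianMonoidalCategory MonObj AlgebraicGeometry

noncomputable section

namespace Groth.Agent.TorusIsog19

open DiagGL TorPts21 MatGrp21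

attribute [local instance] InvRing21.gamAlg BorelFix21.ptsTop

variable {k : Type u} [Field k] [IsAlgClosed k]

/-- A connected subgroup without subtori of a torus is trivial. -/
theorem isTrivialGrp_of_le_torus {H G : Over (Spec (CommRingCat.of k))} [GrpObj H] [GrpObj G] (hG : Red.IsTorus G)
    (i : H ⟶ G) [IsMonHom i] [IsClosedImmersion i.left] [Smooth H.hom] [ConnectedSpace H.left]
    (hH : Red.HasNoSubtorus k H) : Red.IsTrivialGrp H := by
  obtain ⟨hGa, hGs, -, -⟩ := props_of_isTorus hG
  haveI := hGa
  haveI := hGs
  haveI : IsAffine H.left := isAffine_of_isAffineHom i.left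
  obtain ⟨n, r, hr, hrc, hu⟩ := exists_upper_embedding i (isSolvableGrp_of_hasNoSubtorus H hH)
  haveI := hr
  haveI := hrc
  haveI : IsClosedImmersion (i ≫ r).left := by rw [Over.comp_left]; infer_instance
  have hlay := range_le_lay_of_hasNoSubtorus (i ≫ r) hu hH
  obtain ⟨d, ⟨C⟩⟩ := exists_chars hG
  obtain ⟨P, hP⟩ := range_mtx_diag C r
  refine isTrivialGrp_of_pts fun x => mtxFn_injective (i ≫ r) ?_
  rw [← mtx_apply, ← mtx_apply, map_one]
  exact eq_one_of_isUnip_of_isDiag (hP _ ⟨x ≫ i, (mtx_comp i r x).symm⟩) (isUnip_of_mem_lay (hlay ⟨x, rfl⟩))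

/-- A connected group with finitely many rational points is trivial. -/
theorem isTrivialGrp_of_finite_pts {U : Over (Spec (CommRingCat.of k))} [GrpObj U] [IsAffine U.left] [Smooth U.hom]
    [ConnectedSpace U.left] (h : Finite (VecGrp.pt k k ⟶ U)) : Red.IsTrivialGrp U := by
  haveI : IsSeparated U.hom := inferInstance
  haveI : Finite U.left := finite_of_finite_pts h
  haveI : JacobsonSpace U.left := LocallyOfFiniteType.jacobsonSpace U.hom
  haveI : DiscreteTopology U.left := inferInstance
  haveI : Subsingleton U.left := PreconnectedSpace.trivial_of_discrete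
  exact isTrivialGrp_of_pts fun x => pt_ext (Subsingleton.elim _ _)

variable {G' G : Over (Spec (CommRingCat.of k))} [GrpObj G'] [GrpObj G] [IsAffine G'.left] [Smooth G'.hom]
  [ConnectedSpace G'.left] [IsAffine G.left] [Smooth G.hom] [ConnectedSpace G.left]

/-- Tori correspond under surjective homomorphisms with finitely many points in the kernel. -/
theorem isTorus_iff (f : G' ⟶ G) [IsMonHom f] [Surjective f.left]
    (hker : {x : VecGrp.pt k k ⟶ G' | x ≫ f = 1}.Finite) : Red.IsTorus G' ↔ Red.IsTorus G := by
  haveI : IsClosedImmersion (𝟙 G : G ⟶ G).left := inferInstanceAs (IsClosedImmersion (𝟙 G.left))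
  constructor
  · intro h
    haveI : IsReduced G.left := OrbitTop19.isReduced_of_smooth G.hom
    have hmax : AGF.IsMaxTorus (𝟙 G' : G' ⟶ G') := by
      refine ⟨inferInstance, inferInstance, h, fun T' _ j _ _ g _ hg => ?_⟩
      exact ⟨j, hg, (cancel_mono j).1 (by rw [Category.assoc, hg, Category.comp_id, Category.id_comp])⟩
    exact (isMaxTorus_image f hmax (iT' := 𝟙 G) f (by rw [Category.comp_id, Category.id_comp])).2.2.1
  · intro h
    refine S8061.result k G' fun U _ i _ hic hUs hUc hU => ?_
    haveI := hic
    haveI := hUs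
    haveI := hUc
    haveI : IsAffine U.left := isAffine_of_isAffineHom i.left
    haveI : Mono i := Over.mono_of_mono_left i
    obtain ⟨H, _, j, p, hjm, hjc, hHr, hsurj, hpj⟩ := BorelFix21.exists_image (i ≫ f)
    haveI := hjm
    haveI := hjc
    haveI := hHr
    haveI := hsurj
    haveI : IsAffine H.left := isAffine_of_isAffineHom j.left
    haveI : LocallyOfFiniteType H.hom := by rw [← Over.w j]; infer_instance
    haveI : Smooth H.hom := GrpSmooth19.smooth_of_isReduced H
    haveI : Mono j := Over.mono_of_mono_left j
    haveI : IsMonHom p := BorelFix21.isMonHom_of_comp j p (hpj ▸ inferInstance)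
    haveI : PreconnectedSpace H.left := p.left.surjective.denseRange.preconnectedSpace p.left.continuous
    haveI : ConnectedSpace H.left := { toNonempty := ⟨p.left (Classical.arbitrary U.left)⟩ }
    have htriv := isTrivialGrp_of_le_torus h j (hasNoSubtorus_image p hU)
    refine isTrivialGrp_of_finite_pts ?_
    have hmem : ∀ x : VecGrp.pt k k ⟶ U, (x ≫ i) ≫ f = 1 := fun x => by
      rw [Category.assoc, ← hpj, ← Category.assoc, eq_one_of_isTrivialGrp htriv (x ≫ p), MonObj.one_comp]
    haveI := hker.to_subtype
    exact Finite.of_injective (fun x => (⟨x ≫ i, hmem x⟩ : {x : VecGrp.pt k k ⟶ G' | x ≫ f = 1}))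
      fun x y e => (cancel_mono i).1 (congrArg Subtype.val e)

end Groth.Agent.TorusIsog19
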